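import Groth.Agent.Lib.QuotGrp14.Artin
import Groth.Agent.Lib.QuotGrp14.Right

/-!
# Fppf quotients by closed subgroups over a field
-/

universe u

open CategoryTheory MonoidalCategory CartesianMonoidalCategory MonObj GrpObj AlgebraicGeometry

namespace GrothLib.MultQuot14

/-- The quotient by a closed subgroup over a field exists. -/
theorem exists_quotient {k : Type u} [Field k] {G C : Over (Spec (CommRingCat.of k))} [GrpObj G] [GrpObj C]
    [LocallyOfFiniteType G.hom] [LocallyOfFiniteType C.hom] [Flat C.hom] (c : C ⟶ G) [IsMonHom c] [Mono c]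
    [IsClosedImmersion c.left] :
    ∃ (Q : Over (Spec (CommRingCat.of k))) (q : G ⟶ Q), RedSub.IsQuotient c q := by
  obtain ⟨X, p, hf, hs, hp, sq, -⟩ := QuotGrp14.exists_quotient_artin k c
  exact ⟨X, _, QuotGrp14.isQuotient_inv_comp sq hf hs hp⟩

end GrothLib.MultQuot14
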