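import Groth.Agent.Lib.CentMT14.Reductive
import Groth.Agent.Lib.MultLift.TorsionOpen
import Groth.Agent.Lib.MultLocal.Torsion
import Groth.Agent.S5242

/-!
# Torsion kernels of a group of multiplicative type over a field and their density
-/

universe u

open CategoryTheory MonoidalCategory CartesianMonoidalCategory MonObj GrpObj AlgebraicGeometry
open CategoryTheory.Limits
open scoped TensorProduct
open WithConv

set_option backward.isDefEq.respectTransparency false

namespace GrothLib.MultQuot14

open GrothLib.DiagGrp GrothLib.MultHopf14 GrothLib.CentMT14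

variable {k : Type u} [Field k]

/-- The kernels of the power maps detect morphisms of an affine scheme out of a product. -/
def TorsionDense (H : Over (Spec (CommRingCat.of k))) [GrpObj H] : Prop :=
  ∀ (X G : Over (Spec (CommRingCat.of k))) [IsAffine X.left] [IsAffine G.left] (f g : H ⊗ X ⟶ G),
    (∀ (Y : Over (Spec (CommRingCat.of k))) (h : Y ⟶ H) (x : Y ⟶ X) (n : ℕ), 0 < n → h ^ n = 1 →
      lift h x ≫ f = lift h x ≫ g) → f = g

/-- Each kernel of a power map is a finite group of multiplicative type. -/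
def HasTorsionLevels (H : Over (Spec (CommRingCat.of k))) [GrpObj H] : Prop :=
  ∀ n, 0 < n → ∃ (K : Over (Spec (CommRingCat.of k))) (_ : GrpObj K) (i : K ⟶ H), IsMonHom i ∧ Mono i ∧
    SGA3x.IsMultTypeFT K ∧ IsFinite K.hom ∧ ∀ (Y : Over (Spec (CommRingCat.of k))) (h : Y ⟶ H),
      (∃ z : Y ⟶ K, z ≫ i = h) ↔ h ^ n = 1

theorem eq_zero_of_tensor {A B : Type u} [CommRing A] [Algebra k A] [CommRing B] [Algebra k B] {Idx : Type}
    (I : Idx → Ideal A) (hI : ∀ a, (∀ n, a ∈ I n) → a = 0) (d : A ⊗[k] B)
    (hd : ∀ n, Algebra.TensorProduct.map (Ideal.Quotient.mkₐ k (I n)) (AlgHom.id k B) d = 0) : d = 0 := by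
  classical
  let b := Module.Free.chooseBasis k B
  have key : ∀ n (x : A ⊗[k] B) j,
      Ideal.Quotient.mk (I n) ((TensorProduct.equivFinsuppOfBasisRight b) x j) =
        (TensorProduct.equivFinsuppOfBasisRight b)
          (Algebra.TensorProduct.map (Ideal.Quotient.mkₐ k (I n)) (AlgHom.id k B) x) j := by
    intro n x j
    induction x using TensorProduct.induction_on with
    | zero => simp
    | add u v hu hv => simp only [map_add, Finsupp.add_apply, hu, hv]
    | tmul a c => simp [Algebra.smul_def, TensorProduct.equivFinsuppOfBasisRight_apply_tmul_apply]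
  apply (TensorProduct.equivFinsuppOfBasisRight b).injective
  rw [map_zero]
  ext j
  refine hI _ fun n => Ideal.Quotient.eq_zero_iff_mem.mp ?_
  rw [key, hd, map_zero, Finsupp.zero_apply]

section Hopf

variable {A : Type u} [CommRing A] [HopfAlgebra k A] [Algebra.FiniteType k A] [Coalgebra.IsCocomm k A]

omit [Algebra.FiniteType k A] in
theorem specMap_powHom (n : ℕ) :
    specMap (MultLocal.powHom k A n) = 𝟙 (specGrp (R := k) A) ^ n := by
  have h1 : Spec.mapMulEquiv (toConv (AlgHom.id k A)) = 𝟙 (specGrp (R := k) A) := by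
    apply Over.OverMorphism.ext
    change Spec.map (CommRingCat.ofHom (RingHom.id A)) = 𝟙 _
    exact Spec.map_id _
  rw [← h1, ← map_pow]
  refine congrArg Spec.mapMulEquiv (ofConv_injective (AlgHom.ext fun a => ?_))
  exact MultLocal.powHom_apply n a

omit [Algebra.FiniteType k A] in
theorem kernel_pow (n : ℕ) [(SGA3b.torsionIdeal k A n).IsHopfIdeal k] :
    specMap (Bialgebra.Quotient.mkBialgHom (SGA3b.torsionIdeal k A n)) ^ n =
      (1 : specGrp (R := k) (A ⧸ SGA3b.torsionIdeal k A n) ⟶ specGrp (R := k) A) := by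
  let φ := MultLocal.powHom k A n
  let J := SGA3b.torsionIdeal k A n
  let i : specGrp (R := k) (A ⧸ J) ⟶ specGrp (R := k) A := specMap (Bialgebra.Quotient.mkBialgHom J)
  have hp : i ^ n = i ≫ specMap φ := by rw [specMap_powHom, MonObj.comp_pow, Category.comp_id]
  change i ^ n = 1
  rw [hp]
  apply Over.OverMorphism.ext
  rw [Over.comp_left, specMap_left, specMap_left, one_left]
  change _ = Spec.map (CommRingCat.ofHom (algebraMap k (A ⧸ J))) ≫ _
  rw [← Spec.map_comp, ← Spec.map_comp, ← CommRingCat.ofHom_comp, ← CommRingCat.ofHom_comp]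
  refine congrArg (fun f => Spec.map (CommRingCat.ofHom f)) (RingHom.ext fun a => ?_)
  change Ideal.Quotient.mk J (φ a) = algebraMap k (A ⧸ J) (Coalgebra.counit a)
  rw [← Ideal.Quotient.mk_algebraMap, Ideal.Quotient.mk_eq_mk_iff_sub_mem]
  have : φ a - algebraMap k A (Coalgebra.counit a) = φ (a - algebraMap k A (Coalgebra.counit a)) := by
    rw [map_sub]
    exact congrArg _ (AlgHomClass.commutes φ _).symm
  rw [this, MultLocal.powHom_apply]
  exact Ideal.mem_map_of_mem _ (by simp)

theorem hasTorsionLevels_specGrp (hA : SGA3b.IsMultType k A) :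
    HasTorsionLevels (specGrp (R := k) A) := by
  intro n hn
  let φ := MultLocal.powHom k A n
  let J := SGA3b.torsionIdeal k A n
  haveI : J.IsHopfIdeal k := MultLocal.isHopfIdeal_torsionIdeal n
  have hJ : J = Ideal.map (φ : A →+* A) (RingHom.ker (Bialgebra.counitAlgHom k A)) := by
    change Ideal.map ((SGA3b.powConv k A n : A →ₐ[k] A) : A →+* A) _ = _
    exact congrArg (fun f : A →+* A => Ideal.map f _) (RingHom.ext fun a => (MultLocal.powHom_apply n a).symm)
  obtain ⟨hmt, hfin⟩ := Groth.Agent.S5242.result k A inferInstance hA n hn J rfl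
  let i : specGrp (R := k) (A ⧸ J) ⟶ specGrp (R := k) A := specMap (Bialgebra.Quotient.mkBialgHom J)
  haveI : IsClosedImmersion i.left := IsClosedImmersion.spec_of_surjective
    (CommRingCat.ofHom (Ideal.Quotient.mk J)) Ideal.Quotient.mk_surjective
  obtain ⟨σ, E, _, _, hE, -, M, _, hM, g, hg⟩ := exists_etale_frames hmt
  haveI := hfin
  have hfin' : IsFinite (specGrp (R := k) (A ⧸ J)).hom := by
    change IsFinite (Spec.map (CommRingCat.ofHom (algebraMap k (A ⧸ J))))
    rw [IsFinite.SpecMap_iff, CommRingCat.hom_ofHom, RingHom.finite_algebraMap]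
    exact hfin
  refine ⟨_, inferInstance, i, inferInstance, Over.mono_of_mono_left i,
    QuotTorus14.isMultTypeFT_of_charts (hasChartsFpqc_of_frames E hE hM hg), hfin', fun Y h => ?_⟩
  have hpow : h ^ n = h ≫ specMap φ := by
    rw [specMap_powHom, MonObj.comp_pow, Category.comp_id]
  rw [hpow]
  constructor
  · rintro ⟨z, rfl⟩
    rw [Category.assoc, show i ≫ specMap φ = i ^ n by rw [specMap_powHom, MonObj.comp_pow, Category.comp_id],
      kernel_pow, MonObj.comp_one]
  · exact fun h1 => exists_lift_kernel φ J hJ h h1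

theorem torsionDense_specGrp (hA : SGA3b.IsMultType k A) : TorsionDense (specGrp (R := k) A) := by
  intro X G _ _ f g hfg
  let B : Type u := Γ(X.left, ⊤)
  obtain ⟨b, hb⟩ : ∃ b : CommRingCat.of k ⟶ CommRingCat.of B, Spec.map b = X.left.isoSpec.inv ≫ X.hom :=
    ⟨_, Spec.map_preimage _⟩
  letI : Algebra k B := b.hom.toAlgebra
  let X' : Over (Spec (CommRingCat.of k)) := Over.mk (Spec.map (CommRingCat.ofHom (algebraMap k B)))
  let t : X' ⟶ X := Over.homMk X.left.isoSpec.inv hb.symm
  haveI : IsIso ((Over.forget _).map t) := inferInstanceAs (IsIso X.left.isoSpec.inv)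
  haveI : IsIso t := isIso_of_reflects_iso t (Over.forget _)
  rw [← cancel_epi (specGrp (R := k) A ◁ t)]
  apply Over.OverMorphism.ext
  let P : (specGrp (R := k) A ⊗ X').left ≅ Spec (CommRingCat.of (A ⊗[k] B)) := pullbackSpecIso k A B
  rw [← cancel_epi P.inv, ← cancel_mono G.left.isoSpec.hom]
  refine (fun {a b} h => (Spec.map_preimage a).symm.trans ((congrArg Spec.map h).trans (Spec.map_preimage b))) ?_
  apply CommRingCat.hom_ext
  refine RingHom.ext fun r => sub_eq_zero.mp ?_
  let I : {n : ℕ // 0 < n} → Ideal A := fun n => SGA3b.torsionIdeal k A n.1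
  refine eq_zero_of_tensor I (fun a ha => ?_) _ fun n => ?_
  · obtain ⟨j, hj⟩ := MultLift.exists_pow_mul_eq_zero_of_isMultType hA 1 a fun m hm =>
      ⟨0, by simpa using ha ⟨m, hm⟩⟩
    simpa using hj
  · let J := SGA3b.torsionIdeal k A n.1
    haveI : J.IsHopfIdeal k := MultLocal.isHopfIdeal_torsionIdeal n.1
    let i : specGrp (R := k) (A ⧸ J) ⟶ specGrp (R := k) A := specMap (Bialgebra.Quotient.mkBialgHom J)
    let P' : (specGrp (R := k) (A ⧸ J) ⊗ X').left ≅ Spec (CommRingCat.of ((A ⧸ J) ⊗[k] B)) :=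
      pullbackSpecIso k (A ⧸ J) B
    let m : A ⊗[k] B →ₐ[k] (A ⧸ J) ⊗[k] B := Algebra.TensorProduct.map (Ideal.Quotient.mkₐ k J) (AlgHom.id k B)
    have hm : P'.inv ≫ (i ▷ X').left = Spec.map (CommRingCat.ofHom m.toRingHom) ≫ P.inv := by
      rw [← cancel_mono P.hom, Category.assoc, Category.assoc, Iso.inv_hom_id, Category.comp_id,
        ← cancel_mono P.inv, Category.assoc, Category.assoc, Iso.hom_inv_id, Category.comp_id]
      apply pullback.hom_ext
      · refine (Category.assoc _ _ _).trans ((congrArg (P'.inv ≫ ·) (congrArg Over.Hom.left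
          (whiskerRight_fst i X'))).trans ?_)
        rw [Category.assoc]
        erw [pullbackSpecIso_inv_fst]
        rw [Over.comp_left, specMap_left]
        erw [pullbackSpecIso_inv_fst_assoc]
        rw [← Spec.map_comp, ← Spec.map_comp, ← CommRingCat.ofHom_comp, ← CommRingCat.ofHom_comp]
        refine congrArg (fun f => Spec.map (CommRingCat.ofHom f)) (RingHom.ext fun a => ?_)
        exact ((Algebra.TensorProduct.map_tmul _ _ a 1).trans (by simp)).symm
      · refine (Category.assoc _ _ _).trans ((congrArg (P'.inv ≫ ·) (congrArg Over.Hom.left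
          (whiskerRight_snd i X'))).trans ?_)
        rw [Category.assoc]
        erw [pullbackSpecIso_inv_snd, pullbackSpecIso_inv_snd]
        rw [← Spec.map_comp, ← CommRingCat.ofHom_comp]
        refine congrArg (fun f => Spec.map (CommRingCat.ofHom f)) (RingHom.ext fun a => ?_)
        simp [m]
    have hi : i ^ n.1 = 1 := kernel_pow n.1
    have key := hfg (specGrp (R := k) (A ⧸ J) ⊗ X') (fst _ _ ≫ i) (snd _ _ ≫ t) n.1 n.2
      (by rw [← MonObj.comp_pow, hi, MonObj.comp_one])
    have e : lift (fst _ _ ≫ i) (snd _ _ ≫ t) = (i ▷ X') ≫ (specGrp (R := k) A ◁ t) := by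
      apply CartesianMonoidalCategory.hom_ext <;> simp
    rw [e, Category.assoc, Category.assoc] at key
    have key' := congrArg (fun v => Spec.preimage (P'.inv ≫ v.left ≫ G.left.isoSpec.hom)) key
    simp only [Over.comp_left, Category.assoc, reassoc_of% hm] at key'
    have e2 : ∀ v : Spec (CommRingCat.of (A ⊗[k] B)) ⟶ Spec Γ(G.left, ⊤),
        Spec.preimage (Spec.map (CommRingCat.ofHom m.toRingHom) ≫ v) = Spec.preimage v ≫ CommRingCat.ofHom m.toRingHom :=
      fun v => Spec.map_injective (by rw [Spec.map_preimage, Spec.map_comp, Spec.map_preimage])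
    rw [e2, e2] at key'
    have key2 := DFunLike.congr_fun (congrArg CommRingCat.Hom.hom key') r
    rw [map_sub, sub_eq_zero]
    simp only [Over.comp_left, Category.assoc, CommRingCat.hom_comp, RingHom.comp_apply] at key2 ⊢
    exact key2

end Hopf

/-- Charts move along isomorphisms of groups. -/
theorem hasCharts_of_iso {S : Scheme.{u}} {Q : ∀ (M : Type), AddCommGroup M → Prop} {G G' : Over S} [GrpObj G]
    [GrpObj G'] (e : Grp.mk G ≅ Grp.mk G') (h : HasChartsFpqc Q G) : HasChartsFpqc Q G' := by
  obtain ⟨S', π, h1, h2, h3, h4⟩ := h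
  refine ⟨S', π, h1, h2, h3, fun s => ?_⟩
  obtain ⟨U, hU, M, inst, hQ, ⟨e'⟩⟩ := h4 s
  exact ⟨U, hU, M, inst, hQ, ⟨((Over.pullback (U.ι ≫ π)).mapGrp.mapIso e).symm ≪≫ e'⟩⟩

/-- The kernels of a group of multiplicative type over a field are finite of multiplicative type and dense. -/
theorem levels_of_multType (H : Over (Spec (CommRingCat.of k))) [GrpObj H] (hH : SGA3x.IsMultTypeFT H) :
    HasTorsionLevels H ∧ TorsionDense H := by
  haveI := EssFree.isAffineHom_multTypeFT H hH
  obtain ⟨A, _, _, ⟨e⟩⟩ := exists_hopf H inferInstance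
  let eh : specGrp (R := k) A ⟶ H := e.hom.hom.hom
  haveI : IsMonHom eh := Mon.Hom.isMonHom_hom _
  haveI : IsIso eh := inferInstanceAs (IsIso ((Grp.forget _).map e.hom))
  haveI : IsIso eh.left := inferInstanceAs (IsIso ((Over.forget _).map eh))
  haveI := DiagGrp.locallyOfFiniteType_of_isMultTypeFT hH
  haveI : Algebra.FiniteType k A := by
    have h : LocallyOfFiniteType (specGrp (R := k) A).hom := by rw [← Over.w eh]; infer_instance
    change LocallyOfFiniteType (Spec.map (CommRingCat.ofHom (algebraMap k A))) at h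
    rw [HasRingHomProperty.Spec_iff (P := @LocallyOfFiniteType), CommRingCat.hom_ofHom,
      RingHom.finiteType_algebraMap] at h
    exact h
  haveI : Algebra.FinitePresentation k A := Algebra.FinitePresentation.of_finiteType.mp inferInstance
  have hA : SGA3b.IsMultType k A :=
    isMultType_of_charts (hasCharts_of_iso e.symm (hasChartsFpqc_of_isMultTypeFT hH))
  haveI : Coalgebra.IsCocomm k A := by
    obtain ⟨σ, E, _, _, hE, -, M, _, hM, g, hg⟩ := exists_etale_frames hA
    obtain ⟨i, q, -⟩ := hE.surj default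
    haveI : Nontrivial (E i) := PrimeSpectrum.nonempty_iff_nontrivial.mp ⟨q⟩
    exact MultLocal.isCocomm_of_frame (hg i)
  refine ⟨fun n hn => ?_, fun X G _ _ f g hfg => ?_⟩
  · obtain ⟨K, _, i, _, _, hK, hfin, hpts⟩ := hasTorsionLevels_specGrp hA n hn
    refine ⟨K, inferInstance, i ≫ eh, inferInstance, inferInstance, hK, hfin, fun Y h => ?_⟩
    constructor
    · rintro ⟨z, rfl⟩
      rw [← Category.assoc]
      rw [← MonObj.pow_comp, (hpts Y (z ≫ i)).1 ⟨z, rfl⟩, MonObj.one_comp]
    · intro h1
      obtain ⟨z, hz⟩ := (hpts Y (h ≫ inv eh)).2 (by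
        rw [← cancel_mono eh, MonObj.pow_comp, Category.assoc, IsIso.inv_hom_id, Category.comp_id, h1, MonObj.one_comp])
      exact ⟨z, by simp [reassoc_of% hz]⟩
  · rw [← cancel_epi (eh ▷ X)]
    refine torsionDense_specGrp hA X G _ _ fun Y h x n hn hpow => ?_
    have e : lift h x ≫ (eh ▷ X) = lift (h ≫ eh) x := lift_whiskerRight _ _ _
    rw [← Category.assoc, ← Category.assoc, e]
    exact hfg Y (h ≫ eh) x n hn (by rw [← MonObj.pow_comp, hpow, MonObj.one_comp])

end GrothLib.MultQuot14
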