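import Mathlib.AlgebraicGeometry.Sites.Fpqc
import Groth.Agent.Lib.AlgSp.FppfDescent
import Groth.Agent.Lib.FpqcQuot14.Cov
import Groth.Prelude.Def_RedSub
import Mathlib

/-!
# Fppf quotients by subgroups: descent of morphisms and separatedness
-/

universe u

open CategoryTheory CategoryTheory.Limits MonoidalCategory CartesianMonoidalCategory MonObj GrpObj AlgebraicGeometry

set_option backward.isDefEq.respectTransparency false

namespace GrothLib.MultQuot14

variable {S : Scheme.{u}}

/-- Morphisms descend along an effective epimorphism of schemes over the base. -/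
theorem exists_desc_over {G Q T : Over S} (q : G ⟶ Q) [EffectiveEpi q.left] (f : G ⟶ T)
    (h : ∀ (Z : Over S) (a b : Z ⟶ G), a ≫ q = b ≫ q → a ≫ f = b ≫ f) : ∃ d : Q ⟶ T, q ≫ d = f := by
  have h' : ∀ {Z : Scheme.{u}} (a b : Z ⟶ G.left), a ≫ q.left = b ≫ q.left → a ≫ f.left = b ≫ f.left := by
    intro Z a b hab
    have hw : a ≫ G.hom = b ≫ G.hom := by rw [← Over.w q, ← Category.assoc, ← Category.assoc, hab]
    exact congrArg Over.Hom.left (h (Over.mk (a ≫ G.hom)) (Over.homMk a rfl) (Over.homMk b hw.symm)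
      (Over.OverMorphism.ext hab))
  let d := EffectiveEpi.desc q.left f.left h'
  have hd : q.left ≫ d = f.left := EffectiveEpi.fac q.left f.left h'
  refine ⟨Over.homMk d ?_, Over.OverMorphism.ext hd⟩
  rw [← cancel_epi q.left, ← Category.assoc, hd, Over.w f, Over.w q]

/-- The relation of a quotient by a subgroup on points. -/
theorem quotient_eq_iff {G C Q : Over S} [GrpObj G] [GrpObj C] (c : C ⟶ G) (q : G ⟶ Q)
    (sq : IsPullback (fst G C) ((G ◁ c) ≫ μ[G]) q q) {Z : Over S} (a b : Z ⟶ G) :
    a ≫ q = b ≫ q ↔ ∃ z : Z ⟶ C, b = a * (z ≫ c) := by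
  have e : ∀ w : Z ⟶ G ⊗ C, w ≫ (G ◁ c) ≫ μ[G] = (w ≫ fst G C) * ((w ≫ snd G C) ≫ c) := fun w => by
    rw [Hom.mul_def, ← Category.assoc]
    congr 1
    apply CartesianMonoidalCategory.hom_ext <;> simp
  constructor
  · intro h
    exact ⟨sq.lift a b h ≫ snd G C, by
      conv_lhs => rw [← sq.lift_snd a b h, e, sq.lift_fst]⟩
  · rintro ⟨z, rfl⟩
    have h := e (lift a z)
    rw [lift_fst, lift_snd] at h
    rw [← h, Category.assoc, ← sq.w, ← Category.assoc, lift_fst]

theorem flat_lfp_surjective_tensor {G Q : Over S} (q : G ⟶ Q) [Flat q.left] [LocallyOfFinitePresentation q.left]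
    [Surjective q.left] : Flat (q ⊗ₘ q).left ∧ LocallyOfFinitePresentation (q ⊗ₘ q).left ∧
      Surjective (q ⊗ₘ q).left := by
  rw [MonoidalCategory.tensorHom_def, Over.comp_left]
  have h1 := ((FpqcQuot14.isPullback_whiskerRight q G).map (Over.forget S)).flip
  have h2 := ((FpqcQuot14.isPullback_whiskerLeft q Q).map (Over.forget S)).flip
  haveI : Flat (q ▷ G).left := MorphismProperty.of_isPullback h1.flip ‹Flat q.left›
  haveI : Flat (Q ◁ q).left := MorphismProperty.of_isPullback h2.flip ‹Flat q.left›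
  haveI : LocallyOfFinitePresentation (q ▷ G).left :=
    MorphismProperty.of_isPullback h1.flip ‹LocallyOfFinitePresentation q.left›
  haveI : LocallyOfFinitePresentation (Q ◁ q).left :=
    MorphismProperty.of_isPullback h2.flip ‹LocallyOfFinitePresentation q.left›
  haveI : Surjective (q ▷ G).left := MorphismProperty.of_isPullback h1.flip ‹Surjective q.left›
  haveI : Surjective (Q ◁ q).left := MorphismProperty.of_isPullback h2.flip ‹Surjective q.left›
  exact ⟨inferInstance, inferInstance, inferInstance⟩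

/-- The quotient by a closed subgroup is separated. -/
theorem isSeparated_of_isQuotient {G N P : Over S} [GrpObj G] [GrpObj N] (n : N ⟶ G) [IsClosedImmersion n.left]
    (q : G ⟶ P) (hq : RedSub.IsQuotient n q) : IsSeparated P.hom := by
  obtain ⟨_, _, _, sq⟩ := hq
  obtain ⟨_, _, _⟩ := flat_lfp_surjective_tensor q
  let r : G ⊗ N ⟶ G ⊗ G := lift (fst G N) ((G ◁ n) ≫ μ[G])
  have sqd : IsPullback (fst G N ≫ q) r (lift (𝟙 P) (𝟙 P)) (q ⊗ₘ q) := by
    refine ⟨⟨?_⟩, ⟨PullbackCone.IsLimit.mk _
      (fun s => sq.lift (s.snd ≫ fst G G) (s.snd ≫ snd G G) ?_) (fun s => ?_) (fun s => ?_)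
      (fun s m h1 h2 => ?_)⟩⟩
    · apply CartesianMonoidalCategory.hom_ext <;> simp [r, sq.w]
    · have h1 := congrArg (· ≫ fst P P) s.condition
      have h2 := congrArg (· ≫ snd P P) s.condition
      simp at h1 h2 ⊢
      rw [← h1, ← h2]
    · have h1 := congrArg (· ≫ fst P P) s.condition
      simp at h1
      rw [sq.lift_fst_assoc, h1, Category.assoc]
    · apply CartesianMonoidalCategory.hom_ext <;> simp [r]
    · have h3 := congrArg (· ≫ fst G G) h2
      have h4 := congrArg (· ≫ snd G G) h2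
      simp [r] at h3 h4
      apply sq.hom_ext
      · rw [sq.lift_fst, h3]
      · rw [sq.lift_snd, ← h4]
  let sh : G ⊗ G ⟶ G ⊗ G := lift (fst G G) μ[G]
  haveI : IsIso sh := ⟨lift (fst G G) ((fst G G)⁻¹ * snd G G), by
    apply CartesianMonoidalCategory.hom_ext
    · simp [sh]
    · simp only [sh, Category.assoc, lift_snd, MonObj.comp_mul, GrpObj.comp_inv, lift_fst]
      rw [show μ[G] = fst G G * snd G G by rw [Hom.mul_def]; simp]
      group
      simp,
    by
    apply CartesianMonoidalCategory.hom_ext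
    · simp [sh]
    · simp only [sh, Category.assoc, lift_snd]
      rw [show μ[G] = fst G G * snd G G by rw [Hom.mul_def]; simp]
      simp only [MonObj.comp_mul, lift_fst, lift_snd, Category.id_comp]
      group⟩
  haveI : IsIso sh.left := inferInstanceAs (IsIso ((Over.forget S).map sh))
  haveI : IsClosedImmersion (G ◁ n).left :=
    MorphismProperty.of_isPullback (((FpqcQuot14.isPullback_whiskerLeft n G).map (Over.forget S))) ‹_›
  have hr : r = (G ◁ n) ≫ sh := by
    apply CartesianMonoidalCategory.hom_ext <;> simp [r, sh]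
  haveI : IsClosedImmersion r.left := by rw [hr, Over.comp_left]; infer_instance
  have hd : IsClosedImmersion (lift (𝟙 P) (𝟙 P)).left :=
    AlgSp.fppfDescends_isClosedImmersion _ _ _ _ (sqd.map (Over.forget S)) ‹Flat (q ⊗ₘ q).left›
      ‹LocallyOfFinitePresentation (q ⊗ₘ q).left› ‹Surjective (q ⊗ₘ q).left› ‹IsClosedImmersion r.left›
  refine ⟨?_⟩
  have e : (lift (𝟙 P) (𝟙 P)).left = pullback.diagonal P.hom := by
    apply pullback.hom_ext
    · exact (congrArg Over.Hom.left (lift_fst (𝟙 P) (𝟙 P))).trans (pullback.diagonal_fst _).symm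
    · exact (congrArg Over.Hom.left (lift_snd (𝟙 P) (𝟙 P))).trans (pullback.diagonal_snd _).symm
  rwa [← e]

end GrothLib.MultQuot14
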