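import Groth.Agent.Lib.MultQuot14.Orbit
import Groth.Agent.Lib.MultQuot14.Tools
import Groth.Agent.Lib.MultQuot14.Kernel
import Groth.Agent.Lib.AffMono14.Basic
import Groth.Agent.Lib.AlgSp.AffineDescent
import Groth.Agent.Lib.AlgSp.FieldBase
import Groth.Agent.Lib.Affine25.FiniteSurjective
import Groth.Agent.Lib.QuotGrp14.Artin
import Groth.Agent.S6064
import Groth.Agent.S5263
import Groth.Prelude.Def_Red2

/-!
# Quotients by centralizers and normalizers of subgroups of multiplicative type are affine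
-/

universe u

open CategoryTheory MonoidalCategory CartesianMonoidalCategory MonObj GrpObj AlgebraicGeometry
open CategoryTheory.Limits

set_option backward.isDefEq.respectTransparency false

noncomputable section

namespace GrothLib.MultQuot14

variable {k : Type u} [Field k] {G H K A : Over (Spec (CommRingCat.of k))} [GrpObj G] [GrpObj H] [GrpObj K]
  {υ : K ⊗ A ⟶ G} {act : G ⊗ A ⟶ A}

/-- Orbits in a scheme of homomorphisms out of a group of multiplicative type are closed. -/
theorem isClosed_range_orbit {Q : ∀ (M : Type), AddCommGroup M → Prop} (hυ : AutFam.RepresentsHom K G A υ)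
    (hK : DiagGrp.HasChartsFpqc Q K) (hact : IsConjAct υ act) [Smooth G.hom] [LocallyOfFiniteType A.hom]
    (pι : 𝟙_ (Over (Spec (CommRingCat.of k))) ⟶ A) : IsClosed (Set.range (orbit act pι).left.base) := by
  rw [← isOpen_compl_iff, isOpen_iff_forall_mem_open]
  intro a ha
  let B : Over (Spec (CommRingCat.of k)) := Over.mk (A.left.fromSpecResidueField a ≫ A.hom)
  let α : B ⟶ A := Over.homMk (A.left.fromSpecResidueField a) rfl
  haveI := smooth_transl hυ hK hact α
  haveI : UniversallyOpen B.hom := AlgSp.universallyOpen_to_field _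
  haveI : UniversallyOpen (fst A B).left := MorphismProperty.pullback_fst A.hom B.hom ‹_›
  let m : (G ⊗ B) ⟶ A := transl act α ≫ fst A B
  have hm : IsOpen (Set.range m.left.base) := by
    have h : IsOpenMap m.left.base := by
      rw [Over.comp_left]
      exact ((fst A B).left.isOpenMap).comp (transl act α).left.isOpenMap
    exact h.isOpen_range
  refine ⟨_, ?_, hm, ?_⟩
  · rintro z ⟨w₁, rfl⟩ ⟨w₂, hw₂⟩
    obtain ⟨w, -, -⟩ := Scheme.Pullback.exists_preimage_pullback w₁ w₂ hw₂.symm
    let W : Over (Spec (CommRingCat.of k)) := Over.mk ((pullback m.left (orbit act pι).left).fromSpecResidueField w ≫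
      pullback.fst m.left (orbit act pι).left ≫ (G ⊗ B).hom)
    let p₁ : W ⟶ G ⊗ B := Over.homMk ((pullback m.left (orbit act pι).left).fromSpecResidueField w ≫
      pullback.fst m.left (orbit act pι).left) (Category.assoc _ _ _)
    let p₂ : W ⟶ G := Over.homMk ((pullback m.left (orbit act pι).left).fromSpecResidueField w ≫
      pullback.snd m.left (orbit act pι).left) (by
        rw [Category.assoc, ← Over.w (orbit act pι), ← pullback.condition_assoc, Over.w m]
        rfl)
    have hp : p₁ ≫ m = p₂ ≫ orbit act pι := by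
      apply Over.OverMorphism.ext
      change (_ ≫ _) ≫ m.left = (_ ≫ _) ≫ (orbit act pι).left
      rw [Category.assoc, Category.assoc, pullback.condition]
    let g : W ⟶ G := p₁ ≫ fst G B
    let a' : W ⟶ A := (p₁ ≫ snd G B) ≫ α
    have h1 : lift g a' ≫ act = p₂ ≫ orbit act pι := by
      rw [← hp]
      simp [m, g, a', comp_lift_assoc]
    have h2 : a' = (g⁻¹ * p₂) ≫ orbit act pι := by
      have h3 := congrArg (fun t => lift g⁻¹ t ≫ act) h1
      rw [← act_mul hυ hact, inv_mul_cancel, act_one hυ hact, comp_orbit, ← act_mul hυ hact, ← comp_orbit] at h3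
      exact h3
    apply ha
    obtain ⟨x⟩ : Nonempty W.left := inferInstanceAs (Nonempty (Spec _))
    have h4 : a'.left.base x = a := by
      rw [show a'.left = (p₁ ≫ snd G B).left ≫ A.left.fromSpecResidueField a from rfl, Scheme.Hom.comp_apply]
      exact Scheme.fromSpecResidueField_apply _ _
    exact ⟨(g⁻¹ * p₂).left.base x, by rw [← Scheme.Hom.comp_apply, ← Over.comp_left, ← h2, h4]⟩
  · obtain ⟨x⟩ : Nonempty B.left := inferInstanceAs (Nonempty (Spec _))
    refine ⟨(lift (1 : B ⟶ G) (𝟙 B)).left.base x, ?_⟩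
    have h1 : lift (1 : B ⟶ G) (𝟙 B) ≫ m = α := by
      simp only [m, transl, Category.assoc, lift_fst]
      rw [comp_lift_assoc, lift_fst, lift_snd_assoc, Category.id_comp, act_one hυ hact]
    rw [← Scheme.Hom.comp_apply, ← Over.comp_left, h1]
    exact Scheme.fromSpecResidueField_apply _ _

variable (h : H ⟶ G)

/-- A point fixes all points of the subgroup killed by `n`. -/
def Fixes (n : ℕ) {X : Over (Spec (CommRingCat.of k))} (g : X ⟶ G) : Prop :=
  ∀ (Y : Over (Spec (CommRingCat.of k))) (x : Y ⟶ X) (y : Y ⟶ H), y ^ n = 1 →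
    (x ≫ g) * (y ≫ h) * (x ≫ g)⁻¹ = y ≫ h

variable {h}

omit [GrpObj H] in
theorem exists_orbit_data [IsAffine G.left] [LocallyOfFiniteType G.hom] [IsFinite K.hom]
    (hK : SGA3x.IsMultTypeFT K) (u : K ⟶ G) [IsMonHom u] :
    ∃ (A : Over (Spec (CommRingCat.of k))) (υ : K ⊗ A ⟶ G) (act : G ⊗ A ⟶ A)
      (pι : 𝟙_ (Over (Spec (CommRingCat.of k))) ⟶ A), AutFam.RepresentsHom K G A υ ∧ IsConjAct υ act ∧
      IsAffineHom A.hom ∧ LocallyOfFiniteType A.hom ∧
      ∀ (X : Over (Spec (CommRingCat.of k))) (y : X ⟶ K), lift y (toUnit X ≫ pι) ≫ υ = y ≫ u := by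
  haveI : IsAffineHom G.hom := isAffineHom_of_isAffine _
  obtain ⟨A, υ, hυ, hA, hAt, -⟩ := Groth.Agent.S6064.result K G hK
  obtain ⟨act, hact⟩ := exists_act hυ
  obtain ⟨pι, hι⟩ := exists_point hυ u
  exact ⟨A, υ, act, pι, hυ, hact, hA, hAt ‹_›, hι⟩

theorem fixes_iff {n : ℕ} (hυ : AutFam.RepresentsHom K G A υ) (hact : IsConjAct υ act) (i : K ⟶ H) [IsMonHom i]
    [IsMonHom h] (hpts : ∀ (Y : Over (Spec (CommRingCat.of k))) (y : Y ⟶ H), (∃ z : Y ⟶ K, z ≫ i = y) ↔ y ^ n = 1)
    {pι : 𝟙_ (Over (Spec (CommRingCat.of k))) ⟶ A}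
    (hι : ∀ (X : Over (Spec (CommRingCat.of k))) (y : X ⟶ K), lift y (toUnit X ≫ pι) ≫ υ = y ≫ i ≫ h)
    {X : Over (Spec (CommRingCat.of k))} (g : X ⟶ G) :
    g ≫ orbit act pι = toUnit X ≫ pι ↔ Fixes h n g := by
  have h1 : toUnit X ≫ pι = (1 : X ⟶ G) ≫ orbit act pι := by rw [comp_orbit, act_one hυ hact]
  rw [h1, orbit_eq_iff hυ hact (i ≫ h) hι]
  constructor
  · intro hg Y x y hy
    obtain ⟨z, rfl⟩ := (hpts Y y).2 hy
    have := hg Y x z
    simpa using this
  · intro hg Y x y
    have := hg Y x (y ≫ i) ((hpts Y _).1 ⟨y, rfl⟩)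
    simpa using this

theorem exists_fix [Smooth G.hom] [IsAffine G.left] [IsMonHom h] (hL : HasTorsionLevels H) {n : ℕ} (hn : 0 < n) :
    ∃ (T : Over (Spec (CommRingCat.of k))) (c : T ⟶ G), IsClosedImmersion c.left ∧
      ∀ (X : Over (Spec (CommRingCat.of k))) (g : X ⟶ G), (∃ t : X ⟶ T, t ≫ c = g) ↔ Fixes h n g := by
  obtain ⟨K, _, i, _, -, hK, _, hpts⟩ := hL n hn
  obtain ⟨A, υ, act, pι, hυ, hact, _, _, hι⟩ := exists_orbit_data hK (i ≫ h)
  haveI : IsClosedImmersion pι.left := by
    haveI : IsClosedImmersion (pι.left ≫ A.hom) := by rw [Over.w pι]; exact inferInstanceAs (IsClosedImmersion (𝟙 _))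
    exact IsClosedImmersion.of_comp pι.left A.hom
  let P := pullback (orbit act pι).left pι.left
  let T : Over (Spec (CommRingCat.of k)) := Over.mk (pullback.fst (orbit act pι).left pι.left ≫ G.hom)
  let c : T ⟶ G := Over.homMk (pullback.fst (orbit act pι).left pι.left) rfl
  refine ⟨T, c, inferInstanceAs (IsClosedImmersion (pullback.fst (orbit act pι).left pι.left)), fun X g => ?_⟩
  rw [← fixes_iff hυ hact i hpts hι]
  have hT : ∀ (t : X ⟶ T), t.left ≫ pullback.snd (orbit act pι).left pι.left = X.hom := fun t => by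
    have e1 : pι.left ≫ A.hom = 𝟙 _ := Over.w pι
    have e2 : pullback.snd (orbit act pι).left pι.left = pullback.fst (orbit act pι).left pι.left ≫ G.hom := by
      rw [← Over.w (orbit act pι), pullback.condition_assoc, e1]
      exact (Category.comp_id _).symm
    rw [e2]
    exact Over.w t
  constructor
  · rintro ⟨t, rfl⟩
    apply Over.OverMorphism.ext
    change (t.left ≫ pullback.fst _ _) ≫ (orbit act pι).left = X.hom ≫ pι.left
    rw [← hT t, Category.assoc, Category.assoc, pullback.condition]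
  · intro hg
    exact ⟨Over.homMk (pullback.lift g.left X.hom (congrArg Over.Hom.left hg)) (by
      change _ ≫ pullback.fst _ _ ≫ G.hom = X.hom
      rw [pullback.lift_fst_assoc, Over.w g]), Over.OverMorphism.ext (pullback.lift_fst _ _ _)⟩

omit [GrpObj H] in
theorem Fixes.comp {n : ℕ} [GrpObj H] {X X' : Over (Spec (CommRingCat.of k))} {g : X ⟶ G} (hg : Fixes h n g)
    (t : X' ⟶ X) : Fixes h n (t ≫ g) := fun Y x y hy => by
  simpa [Category.assoc] using hg Y (x ≫ t) y hy

/-- The centralizer is the centralizer of one torsion level. -/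
theorem exists_level [Smooth G.hom] [QuasiCompact G.hom] [IsAffine G.left] [IsMonHom h]
    (hL : HasTorsionLevels H) (hD : TorsionDense H) :
    ∃ n, 0 < n ∧ ∀ (X : Over (Spec (CommRingCat.of k))) (g : X ⟶ G), Fixes h n g →
      ∀ (Y : Over (Spec (CommRingCat.of k))) (x : Y ⟶ X) (y : Y ⟶ H),
        (x ≫ g) * (y ≫ h) = (y ≫ h) * (x ≫ g) := by
  choose T c hc hpts using fun m : ℕ => exists_fix (h := h) hL (Nat.factorial_pos m)
  haveI : IsLocallyNoetherian G.left := LocallyOfFiniteType.isLocallyNoetherian G.hom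
  haveI : IsNoetherianRing Γ(G.left, ⊤) := IsLocallyNoetherian.component_noetherian ⟨⊤, isAffineOpen_top _⟩
  have hmono : ∀ m m', m ≤ m' → ∀ (X : Over (Spec (CommRingCat.of k))) (g : X ⟶ G),
      Fixes h (Nat.factorial m') g → Fixes h (Nat.factorial m) g := fun m m' hmm X g hg Y x y hy => by
    refine hg Y x y ?_
    obtain ⟨d, hd⟩ := Nat.factorial_dvd_factorial hmm
    rw [hd, pow_mul, hy, one_pow]
  let J : ℕ →o Ideal Γ(G.left, ⊤) := ⟨fun m : ℕ => Scheme.IdealSheafData.equivOfIsAffine (c m).left.ker, fun m m' hmm => by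
    refine OrderHomClass.mono (Scheme.IdealSheafData.equivOfIsAffine (X := G.left)) ?_
    obtain ⟨t, ht⟩ := (hpts m _ _).2 (hmono (m : ℕ) (m' : ℕ) hmm _ _ ((hpts m' _ (c m')).1 ⟨𝟙 _, Category.id_comp _⟩))
    rw [← ht, Over.comp_left]
    exact Scheme.Hom.le_ker_comp _ _⟩
  obtain ⟨M, hM⟩ := monotone_stabilizes_iff_noetherian.mpr inferInstance J
  refine ⟨M.factorial, M.factorial_pos, fun X g hg => ?_⟩
  obtain ⟨t, rfl⟩ := (hpts M X g).2 hg
  have hall : ∀ n, 0 < n → Fixes h n (c M) := by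
    intro n hn Y x y hy
    have hle : (c (max M n)).left.ker ≤ (c M).left.ker :=
      ((Scheme.IdealSheafData.equivOfIsAffine (X := G.left)).injective (hM (max M n) (le_max_left _ _))).ge
    haveI := hc (max M n)
    have h1 : ∃ s : T M ⟶ T (max M n), s ≫ c (max M n) = c M := by
      refine ⟨Over.homMk (IsClosedImmersion.lift (c (max M n)).left (c M).left hle) ?_,
        Over.OverMorphism.ext (IsClosedImmersion.lift_fac _ _ _)⟩
      rw [← Over.w (c (max M n)), ← Category.assoc, IsClosedImmersion.lift_fac, Over.w]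
    refine (hpts _ _ _).1 h1 Y x y ?_
    obtain ⟨d, hd⟩ := Nat.dvd_factorial hn (le_max_right M n)
    rw [hd, pow_mul, hy, one_pow]
  haveI := hc M
  haveI : IsAffine (T M).left := isAffine_of_isAffineHom (c M).left
  have he : (snd H (T M) ≫ c M) * (fst H (T M) ≫ h) * (snd H (T M) ≫ c M)⁻¹ = fst H (T M) ≫ h := by
    refine hD (T M) G _ _ fun Y y x n hn hy => ?_
    simp only [MonObj.comp_mul, GrpObj.comp_inv, lift_snd_assoc, lift_fst_assoc]
    exact hall n hn Y x y hy
  intro Y x y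
  have h1 := congrArg (lift y (x ≫ t) ≫ ·) he
  simp only [MonObj.comp_mul, GrpObj.comp_inv, lift_snd_assoc, lift_fst_assoc, Category.assoc] at h1
  exact mul_inv_eq_iff_eq_mul.mp h1

section Quotients

variable [Smooth G.hom] [QuasiCompact G.hom] [IsAffine G.left] [IsMonHom h]
  {C : Over (Spec (CommRingCat.of k))} [GrpObj C] {c : C ⟶ G}

/-- The quotient by the centralizer is an open and closed orbit. -/
theorem exists_embedding (hυ : AutFam.RepresentsHom K G A υ) {Q' : ∀ (M : Type), AddCommGroup M → Prop}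
    (hK : DiagGrp.HasChartsFpqc Q' K) (hact : IsConjAct υ act) [LocallyOfFiniteType A.hom] [IsAffineHom A.hom]
    (i : K ⟶ H) [IsMonHom i] {n : ℕ}
    (hpts : ∀ (Y : Over (Spec (CommRingCat.of k))) (y : Y ⟶ H), (∃ z : Y ⟶ K, z ≫ i = y) ↔ y ^ n = 1)
    (hlev : ∀ (X : Over (Spec (CommRingCat.of k))) (g : X ⟶ G), Fixes h n g →
      ∀ (Y : Over (Spec (CommRingCat.of k))) (x : Y ⟶ X) (y : Y ⟶ H), (x ≫ g) * (y ≫ h) = (y ≫ h) * (x ≫ g))
    {pι : 𝟙_ (Over (Spec (CommRingCat.of k))) ⟶ A}
    (hι : ∀ (X : Over (Spec (CommRingCat.of k))) (y : X ⟶ K), lift y (toUnit X ≫ pι) ≫ υ = y ≫ i ≫ h)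
    (hC : Red.IsCentralizerOf h c) {Q : Over (Spec (CommRingCat.of k))} {q : G ⟶ Q}
    (hq : RedSub.IsQuotient c q) :
    IsAffine Q.left ∧ ∃ j : Q ⟶ A, IsClosedImmersion j.left ∧ q ≫ j = orbit act pι := by
  obtain ⟨_, _, _, sq⟩ := hq
  haveI := smooth_orbit hυ hK hact pι
  haveI : IsAffine A.left := isAffine_of_isAffineHom A.hom
  let o := orbit act pι
  let U : A.left.Opens := ⟨Set.range o.left.base, o.left.isOpenMap.isOpen_range⟩
  let UO : Over (Spec (CommRingCat.of k)) := Over.mk (U.ι ≫ A.hom)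
  let jU : UO ⟶ A := Over.homMk U.ι rfl
  have hr : Set.range o.left.base ⊆ Set.range U.ι.base := by rw [Scheme.Opens.range_ι]; exact le_rfl
  let o' : G ⟶ UO := Over.homMk (IsOpenImmersion.lift U.ι o.left hr) (by
    change _ ≫ U.ι ≫ A.hom = G.hom
    rw [IsOpenImmersion.lift_fac_assoc, Over.w o])
  have ho' : o' ≫ jU = o := Over.OverMorphism.ext (IsOpenImmersion.lift_fac _ _ _)
  haveI : Smooth o'.left := by
    have : Smooth (o'.left ≫ U.ι) := by
      rw [show o'.left ≫ U.ι = o.left from IsOpenImmersion.lift_fac _ _ _]; assumption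
    exact MorphismProperty.of_postcomp @Smooth o'.left U.ι (W' := @IsOpenImmersion) inferInstance this
  haveI : LocallyOfFinitePresentation o'.left := ((Groth.Agent.S1488.result o'.left).mp ‹_›).1
  haveI : Surjective o'.left := by
    refine ⟨fun z => ?_⟩
    obtain ⟨g, hg⟩ := (show U.ι.base z ∈ Set.range o.left.base from z.2)
    refine ⟨g, U.ι.isEmbedding.injective ?_⟩
    rw [← hg]
    refine (Scheme.Hom.comp_apply o'.left U.ι g).symm.trans ?_
    rw [show o'.left ≫ U.ι = o.left from IsOpenImmersion.lift_fac _ _ _]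
  haveI : IsClosedImmersion U.ι := by
    refine IsClosedImmersion.of_isPreimmersion _ ?_
    rw [Scheme.Opens.range_ι]
    exact isClosed_range_orbit hυ hK hact pι
  haveI : Mono jU := Over.mono_of_mono_left jU
  obtain ⟨φ, hφ⟩ := exists_desc_over q o' fun Z a b hab => by
    obtain ⟨z, rfl⟩ := (quotient_eq_iff c q sq a b).1 hab
    rw [← cancel_mono jU, Category.assoc, Category.assoc, ho', orbit_eq_iff hυ hact (i ≫ h) hι]
    intro Y x y
    have hz := (hC.2.2 Z (z ≫ c)).1 ⟨z, rfl⟩ Y x (y ≫ i)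
    rw [Category.assoc] at hz
    simp only [MonObj.comp_mul, _root_.mul_inv_rev, _root_.mul_assoc]
    rw [← _root_.mul_assoc (x ≫ z ≫ c) (y ≫ i ≫ h), hz]
    group
  obtain ⟨ψ, hψ⟩ := exists_desc_over o' q fun Z a b hab => by
    refine (quotient_eq_iff c q sq a b).2 ?_
    have h1 : a ≫ orbit act pι = b ≫ orbit act pι := by
      have := congrArg (· ≫ jU) hab
      simpa [Category.assoc, ho'] using this
    rw [orbit_eq_iff hυ hact (i ≫ h) hι] at h1
    have h2 : Fixes h n (a⁻¹ * b) := fun Y x y hy => by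
      obtain ⟨w, rfl⟩ := (hpts Y y).2 hy
      have h3 := h1 Y x w
      rw [Category.assoc, MonObj.comp_mul, GrpObj.comp_inv]
      calc (x ≫ a)⁻¹ * (x ≫ b) * (w ≫ i ≫ h) * ((x ≫ a)⁻¹ * (x ≫ b))⁻¹
          = (x ≫ a)⁻¹ * ((x ≫ b) * (w ≫ i ≫ h) * (x ≫ b)⁻¹) * (x ≫ a) := by group
        _ = w ≫ i ≫ h := by rw [← h3]; group
    obtain ⟨z, hz⟩ := (hC.2.2 Z (a⁻¹ * b)).2 (hlev Z _ h2)
    exact ⟨z, by rw [hz]; group⟩
  haveI : Epi q := (Over.forget _).epi_of_epi_map (inferInstanceAs (Epi q.left))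
  haveI : Epi o' := (Over.forget _).epi_of_epi_map (inferInstanceAs (Epi o'.left))
  haveI : IsIso φ := ⟨ψ, by rw [← cancel_epi q, ← Category.assoc, hφ, hψ, Category.comp_id],
    by rw [← cancel_epi o', ← Category.assoc, hψ, hφ, Category.comp_id]⟩
  haveI : IsIso φ.left := inferInstanceAs (IsIso ((Over.forget _).map φ))
  haveI : IsAffine UO.left := isAffine_of_isAffineHom U.ι
  refine ⟨.of_isIso φ.left, φ ≫ jU, ?_, by rw [← Category.assoc, hφ, ho']⟩
  rw [Over.comp_left]
  exact inferInstanceAs (IsClosedImmersion (φ.left ≫ U.ι))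

/-- The quotient by the normalizer is affine: the quotient by the centralizer is finite over it. -/
theorem isAffine_normalizer [Mono h] (hHaff : IsAffine H.left) [LocallyOfFiniteType H.hom]
    [IsFinite K.hom] (hKmt : SGA3x.IsMultTypeFT K) (hυ : AutFam.RepresentsHom K G A υ) (hact : IsConjAct υ act)
    [IsAffineHom A.hom] (i : K ⟶ H) [IsMonHom i] [Mono i] {n : ℕ}
    (hpts : ∀ (Y : Over (Spec (CommRingCat.of k))) (y : Y ⟶ H), (∃ z : Y ⟶ K, z ≫ i = y) ↔ y ^ n = 1)
    {pι : 𝟙_ (Over (Spec (CommRingCat.of k))) ⟶ A}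
    (hι : ∀ (X : Over (Spec (CommRingCat.of k))) (y : X ⟶ K), lift y (toUnit X ≫ pι) ≫ υ = y ≫ i ≫ h)
    (hC : Red.IsCentralizerOf h c) {Q : Over (Spec (CommRingCat.of k))} {q : G ⟶ Q} (hq : RedSub.IsQuotient c q)
    [IsAffine Q.left] (jQ : Q ⟶ A) [IsClosedImmersion jQ.left] (hjQ : q ≫ jQ = orbit act pι)
    {N : Over (Spec (CommRingCat.of k))} [GrpObj N] {ν : N ⟶ G} [IsClosedImmersion ν.left]
    (hN : Red.IsNormalizerOf h ν)
    {P : Over (Spec (CommRingCat.of k))} {p : G ⟶ P} (hp : RedSub.IsQuotient ν p) : IsAffine P.left := by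
  haveI := isSeparated_of_isQuotient ν p hp
  obtain ⟨_, _, _, sqP⟩ := hp
  obtain ⟨_, _, _, sqQ⟩ := hq
  haveI : Epi q := (Over.forget _).epi_of_epi_map (inferInstanceAs (Epi q.left))
  -- the natural map between the quotients
  obtain ⟨π, hπ⟩ := exists_desc_over q p fun Z a b hab => by
    obtain ⟨z, rfl⟩ := (quotient_eq_iff c q sqQ a b).1 hab
    refine (quotient_eq_iff ν p sqP _ _).2 ?_
    obtain ⟨w, hw⟩ := (hN.2.2 Z (z ≫ c)).2 fun Y x y => by
      have hz := (hC.2.2 Z (z ≫ c)).1 ⟨z, rfl⟩ Y x y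
      exact ⟨⟨y, by rw [hz]; group⟩, ⟨y, by rw [_root_.mul_assoc, ← hz]; group⟩⟩
    exact ⟨w, by rw [hw]⟩
  haveI : Surjective π.left := by
    haveI : Surjective (q.left ≫ π.left) := by rw [← Over.comp_left, hπ]; infer_instance
    exact Surjective.of_comp q.left π.left
  -- homomorphisms of the torsion level into itself
  haveI hGaff : IsAffineHom G.hom := isAffineHom_of_isAffine _
  haveI : IsSeparated G.hom := inferInstance
  obtain ⟨E, υE, hυE, hEfin, -⟩ := Groth.Agent.S5263.result K K hKmt hKmt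
  haveI := hEfin
  have hfamE : AutFam.IsHomFamily K G (υE ≫ i ≫ h) := fun Y y₁ y₂ t => by
    simp only [← Category.assoc, hυE.1 Y y₁ y₂ t, MonObj.mul_comp]
  obtain ⟨e, he, -⟩ := hυ.2 E _ hfamE
  have he' : ∀ (Y : Over (Spec (CommRingCat.of k))) (y : Y ⟶ K) (b : Y ⟶ E),
      lift y (b ≫ e) ≫ υ = lift y b ≫ υE ≫ i ≫ h := fun Y y b => by
    rw [← he, lift_whiskerLeft_assoc]
  haveI hemono : Mono e := ⟨fun {X} a b hab => ext_hom hυE fun Y x y => by
    have h1 := he' Y y (x ≫ a)
    rw [Category.assoc, hab, ← Category.assoc, he' Y y (x ≫ b), ← Category.assoc, ← Category.assoc _ υE] at h1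
    exact ((cancel_mono (i ≫ h)).1 h1).symm⟩
  haveI : Mono e.left := inferInstanceAs (Mono ((Over.forget _).map e))
  haveI : IsFinite e.left := by
    have : IsFinite (e.left ≫ A.hom) := by rw [Over.w e]; infer_instance
    exact MorphismProperty.of_postcomp @IsFinite e.left A.hom (W' := @IsSeparated) inferInstance this
  haveI : IsClosedImmersion e.left := (IsClosedImmersion.iff_isFinite_and_mono _).mpr ⟨inferInstance, inferInstance⟩
  -- the two projections of the fibre product
  let prG : pullback p π ⟶ G := pullback.fst p π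
  let prQ : pullback p π ⟶ Q := pullback.snd p π
  have sqW : IsPullback prG prQ p π := IsPullback.of_hasPullback p π
  let gr : pullback p π ⟶ G ⊗ Q := lift prG prQ
  haveI : IsClosedImmersion gr.left := by
    have sqD : IsPullback (prG ≫ p) gr (lift (𝟙 P) (𝟙 P)) (p ⊗ₘ π) := by
      refine ⟨⟨?_⟩, ⟨PullbackCone.IsLimit.mk _
        (fun s => sqW.lift (s.snd ≫ fst G Q) (s.snd ≫ snd G Q) ?_) (fun s => ?_) (fun s => ?_)
        (fun s m h1 h2 => ?_)⟩⟩
      · apply CartesianMonoidalCategory.hom_ext <;> simp [gr, sqW.w]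
      · have h1 := congrArg (· ≫ fst P P) s.condition
        have h2 := congrArg (· ≫ snd P P) s.condition
        simp at h1 h2 ⊢
        rw [← h1, ← h2]
      · have h1 := congrArg (· ≫ fst P P) s.condition
        simp at h1
        rw [sqW.lift_fst_assoc, h1, Category.assoc]
      · apply CartesianMonoidalCategory.hom_ext <;> simp [gr]
      · have h3 := congrArg (· ≫ fst G Q) h2
        have h4 := congrArg (· ≫ snd G Q) h2
        simp [gr] at h3 h4
        apply sqW.hom_ext
        · rw [sqW.lift_fst, h3]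
        · rw [sqW.lift_snd, ← h4]
    haveI : IsClosedImmersion (lift (𝟙 P) (𝟙 P)).left := by
      have e : (lift (𝟙 P) (𝟙 P)).left = pullback.diagonal P.hom := by
        apply pullback.hom_ext
        · exact (congrArg Over.Hom.left (lift_fst (𝟙 P) (𝟙 P))).trans (pullback.diagonal_fst _).symm
        · exact (congrArg Over.Hom.left (lift_snd (𝟙 P) (𝟙 P))).trans (pullback.diagonal_snd _).symm
      rw [e]
      infer_instance
    exact MorphismProperty.of_isPullback (sqD.map (Over.forget _)) ‹IsClosedImmersion (lift (𝟙 P) (𝟙 P)).left›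
  let θ : G ⊗ A ⟶ G ⊗ A := lift (fst G A) (lift (fst G A)⁻¹ (snd G A) ≫ act)
  haveI : IsIso θ := ⟨lift (fst G A) act, by
    apply CartesianMonoidalCategory.hom_ext
    · simp [θ]
    · have : θ = lift (fst G A) (lift (fst G A)⁻¹ (snd G A) ≫ act) := rfl
      rw [Category.assoc, lift_snd, this, ← act_mul hυ hact, mul_inv_cancel, act_one hυ hact, Category.id_comp],
    by
    apply CartesianMonoidalCategory.hom_ext
    · simp [θ]
    · simp only [θ, Category.assoc, lift_snd, comp_lift_assoc, GrpObj.comp_inv, lift_fst, Category.id_comp]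
      rw [show lift (fst G A)⁻¹ act = lift (fst G A)⁻¹ (lift (fst G A) (snd G A) ≫ act) by simp, ← act_mul hυ hact,
        inv_mul_cancel, act_one hυ hact]⟩
  let j : pullback p π ⟶ G ⊗ A := gr ≫ (G ◁ jQ) ≫ θ
  haveI : IsClosedImmersion j.left := by
    haveI : IsClosedImmersion (G ◁ jQ).left :=
      MorphismProperty.of_isPullback ((FpqcQuot14.isPullback_whiskerLeft jQ G).map (Over.forget _)) ‹_›
    haveI : IsIso θ.left := inferInstanceAs (IsIso ((Over.forget _).map θ))
    rw [Over.comp_left, Over.comp_left]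
    infer_instance
  -- a covering of the fibre product
  let m : G ⊗ N ⟶ G := (G ◁ ν) ≫ μ[G]
  have hm : m = fst G N * (snd G N ≫ ν) := by
    rw [Hom.mul_def]
    change (G ◁ ν) ≫ μ[G] = _
    congr 1
  let r : G ⊗ N ⟶ pullback p π := pullback.lift (fst G N) (m ≫ q) (by rw [Category.assoc, hπ]; exact sqP.w)
  have hr₁ : r ≫ prG = fst G N := pullback.lift_fst _ _ _
  have hr₂ : r ≫ prQ = m ≫ q := pullback.lift_snd _ _ _
  have sqR : IsPullback m r q prQ :=
    IsPullback.of_bot (h₃₁ := p) (v₂₁ := prG) (v₂₂ := π) (by rw [hr₁, hπ]; exact sqP.flip) hr₂.symm sqW.flip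
  have sqR' := sqR.map (Over.forget _)
  haveI : Flat r.left := MorphismProperty.of_isPullback sqR' ‹Flat q.left›
  haveI : LocallyOfFinitePresentation r.left := MorphismProperty.of_isPullback sqR' ‹LocallyOfFinitePresentation q.left›
  haveI : Surjective r.left := MorphismProperty.of_isPullback sqR' ‹Surjective q.left›
  haveI : Epi r := (Over.forget _).epi_of_epi_map (inferInstanceAs (Epi r.left))
  -- the normalizer acts on the torsion level
  let v : G ⊗ N ⟶ G := snd G N ≫ ν
  let φ₀ : K ⊗ (G ⊗ N) ⟶ G := (snd _ _ ≫ v) * (fst _ _ ≫ i ≫ h) * (snd _ _ ≫ v)⁻¹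
  obtain ⟨z, hz⟩ : ∃ z : K ⊗ (G ⊗ N) ⟶ K, z ≫ i ≫ h = φ₀ := by
    obtain ⟨⟨h', hh'⟩, -⟩ := (hN.2.2 (G ⊗ N) v).1 ⟨snd G N, rfl⟩ _ (snd K (G ⊗ N)) (fst K (G ⊗ N) ≫ i)
    have hpow : h' ^ n = 1 := by
      have h0 : (fst K (G ⊗ N) ≫ i) ^ n = 1 := (hpts _ _).1 ⟨_, rfl⟩
      rw [← cancel_mono h, MonObj.pow_comp, ← hh', conj_pow, ← MonObj.pow_comp, h0, MonObj.one_comp]
      group
    obtain ⟨z, hz⟩ := (hpts _ h').2 hpow
    exact ⟨z, by rw [← Category.assoc, hz, ← hh', Category.assoc]⟩
  have hfam : AutFam.IsHomFamily K K z := fun Y y₁ y₂ t => by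
    rw [← cancel_mono (i ≫ h), MonObj.mul_comp]
    simp only [Category.assoc, hz, φ₀, MonObj.comp_mul, GrpObj.comp_inv, lift_snd_assoc, lift_fst_assoc,
      MonObj.mul_comp]
    group
  obtain ⟨a₀, ha₀, -⟩ := hυE.2 _ z hfam
  have hrj : r ≫ j = lift (fst G N) a₀ ≫ (G ◁ e) := by
    have h1 : r ≫ prQ ≫ jQ = (fst G N * v) ≫ orbit act pι := by
      rw [← Category.assoc, hr₂, Category.assoc, hjQ, hm]
    have h2 : a₀ ≫ e = v ≫ orbit act pι := ext_hom hυ fun Y x y => by
      have h3 := congrArg (lift y x ≫ ·) ha₀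
      simp only [lift_whiskerLeft_assoc] at h3
      rw [← Category.assoc x a₀, he', ← Category.assoc, h3, Category.assoc, hz, ← Category.assoc x v, comp_orbit,
        hact, hι]
      simp [φ₀, MonObj.comp_mul, GrpObj.comp_inv]
    apply CartesianMonoidalCategory.hom_ext
    · simp [j, gr, θ, hr₁]
    · simp only [j, gr, θ, Category.assoc, lift_snd, comp_lift_assoc, GrpObj.comp_inv, whiskerLeft_fst,
        whiskerLeft_snd, lift_fst, lift_snd_assoc, lift_whiskerLeft_assoc, hr₁, h1.trans (comp_orbit _ _)]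
      rw [h2, comp_orbit, ← act_mul hυ hact]
      congr 2
      group
  haveI : IsClosedImmersion (G ◁ e).left :=
    MorphismProperty.of_isPullback ((FpqcQuot14.isPullback_whiskerLeft e G).map (Over.forget _)) ‹_›
  haveI : Mono (G ◁ e) := Over.mono_of_mono_left _
  obtain ⟨d, hd⟩ := exists_desc_over r (lift (fst G N) a₀) fun Z a b hab => by
    rw [← cancel_mono (G ◁ e), Category.assoc, Category.assoc, ← hrj, ← Category.assoc, hab, Category.assoc]
  have hdj : d ≫ (G ◁ e) = j := by rw [← cancel_epi r, ← Category.assoc, hd, hrj]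
  haveI : IsClosedImmersion d.left := by
    have : IsClosedImmersion (d.left ≫ (G ◁ e).left) := by rw [← Over.comp_left, hdj]; assumption
    exact IsClosedImmersion.of_comp d.left (G ◁ e).left
  haveI : IsFinite (fst G E).left := MorphismProperty.pullback_fst G.hom E.hom ‹IsFinite E.hom›
  haveI : IsFinite prG.left := by
    have e1 : prG = d ≫ fst G E := by
      rw [← cancel_epi r, ← Category.assoc, hd, lift_fst, hr₁]
    rw [e1, Over.comp_left]
    infer_instance
  haveI : IsFinite π.left :=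
    AlgSp.fppfDescends_isFinite π.left p.left prQ.left prG.left (sqW.flip.map (Over.forget _))
      ‹Flat p.left› ‹LocallyOfFinitePresentation p.left› ‹Surjective p.left› ‹IsFinite prG.left›
  haveI : LocallyOfFiniteType P.hom := by
    have : LocallyOfFiniteType (p.left ≫ P.hom) := by rw [Over.w p]; infer_instance
    exact FppfSource.fppfSourceDescends_lft p.left P.hom ‹_› ‹_› ‹_› this
  haveI : IsLocallyNoetherian P.left := LocallyOfFiniteType.isLocallyNoetherian P.hom
  haveI : CompactSpace P.left := by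
    haveI : CompactSpace G.left := QuasiCompact.compactSpace_of_compactSpace G.hom
    exact p.left.surjective.compactSpace p.left.continuous
  haveI : AlgebraicGeometry.IsNoetherian P.left := {}
  exact Affine25.isAffine_of_finite_surjective π.left

end Quotients

end GrothLib.MultQuot14
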