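import Groth.Agent.Lib.MultDef14.Sub
import Groth.Agent.Lib.DiagGrp.KernelFP
import Groth.Agent.S1488
import Groth.Prelude.Def_AutFam

/-!
# The conjugation action on a scheme of homomorphisms out of a group of multiplicative type
-/

universe u

open CategoryTheory MonoidalCategory CartesianMonoidalCategory MonObj GrpObj AlgebraicGeometry
open scoped TensorProduct

set_option backward.isDefEq.respectTransparency false

noncomputable section

namespace GrothLib.MultQuot14

open GrothLib.MultDef14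

variable {S : Scheme.{u}} {K G A : Over S} [GrpObj K] [GrpObj G] {υ : K ⊗ A ⟶ G}
variable (hυ : AutFam.RepresentsHom K G A υ)

include hυ in
/-- Two points of the scheme of homomorphisms agree if they give the same homomorphism. -/
theorem ext_hom {X : Over S} {a b : X ⟶ A}
    (h : ∀ (Y : Over S) (x : Y ⟶ X) (y : Y ⟶ K), lift y (x ≫ a) ≫ υ = lift y (x ≫ b) ≫ υ) : a = b := by
  have ha : AutFam.IsHomFamily K G ((K ◁ a) ≫ υ) := fun Y y₁ y₂ t => by
    simp only [lift_whiskerLeft_assoc]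
    exact hυ.1 Y y₁ y₂ _
  refine (hυ.2 X _ ha).unique rfl ?_
  have h1 := h (K ⊗ X) (snd _ _) (fst _ _)
  have e : ∀ c : X ⟶ A, lift (fst K X) (snd K X ≫ c) = K ◁ c := fun c => by
    apply CartesianMonoidalCategory.hom_ext <;> simp
  rw [e, e] at h1
  exact h1.symm

include hυ in
theorem isHomFamily_conj :
    AutFam.IsHomFamily K G ((snd K (G ⊗ A) ≫ fst G A) * ((K ◁ snd G A) ≫ υ) * (snd K (G ⊗ A) ≫ fst G A)⁻¹) := by
  intro Y y₁ y₂ t
  simp only [MonObj.comp_mul, GrpObj.comp_inv, lift_snd_assoc, lift_whiskerLeft_assoc, hυ.1 Y y₁ y₂ (t ≫ snd G A)]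
  group

/-- An action realising conjugation of homomorphisms. -/
def IsConjAct (υ : K ⊗ A ⟶ G) (act : G ⊗ A ⟶ A) : Prop :=
  ∀ (X : Over S) (y : X ⟶ K) (g : X ⟶ G) (a : X ⟶ A),
    lift y (lift g a ≫ act) ≫ υ = g * (lift y a ≫ υ) * g⁻¹

include hυ in
theorem exists_act : ∃ act : G ⊗ A ⟶ A, IsConjAct υ act := by
  obtain ⟨act, hact, -⟩ := hυ.2 _ _ (isHomFamily_conj hυ)
  refine ⟨act, fun X y g a => ?_⟩
  have h := congrArg (lift y (lift g a) ≫ ·) hact
  simp only [lift_whiskerLeft_assoc, MonObj.comp_mul, GrpObj.comp_inv, lift_snd_assoc, lift_fst, lift_snd] at h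
  exact h

variable {act : G ⊗ A ⟶ A}

include hυ in
theorem act_mul (hact : IsConjAct υ act) {X : Over S} (g g' : X ⟶ G) (a : X ⟶ A) :
    lift (g * g') a ≫ act = lift g (lift g' a ≫ act) ≫ act := by
  refine ext_hom hυ fun Y x y => ?_
  unfold IsConjAct at hact
  simp only [comp_lift_assoc, MonObj.comp_mul, hact]
  group

include hυ in
theorem act_one (hact : IsConjAct υ act) {X : Over S} (a : X ⟶ A) : lift (1 : X ⟶ G) a ≫ act = a := by
  refine ext_hom hυ fun Y x y => ?_
  unfold IsConjAct at hact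
  simp only [comp_lift_assoc, MonObj.comp_one, hact]
  group

include hυ in
/-- The point of a homomorphism. -/
theorem exists_point (u : K ⟶ G) [IsMonHom u] :
    ∃ pι : 𝟙_ (Over S) ⟶ A, ∀ (X : Over S) (y : X ⟶ K), lift y (toUnit X ≫ pι) ≫ υ = y ≫ u := by
  have hfam : AutFam.IsHomFamily K G (fst K (𝟙_ (Over S)) ≫ u) := fun Y y₁ y₂ t => by
    simp [MonObj.mul_comp]
  obtain ⟨pι, hι, -⟩ := hυ.2 _ _ hfam
  refine ⟨pι, fun X y => ?_⟩
  have h := congrArg (lift y (toUnit X) ≫ ·) hι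
  simp only [lift_whiskerLeft_assoc, lift_fst_assoc] at h
  exact h

/-- The orbit map of a point. -/
abbrev orbit (act : G ⊗ A ⟶ A) (pι : 𝟙_ (Over S) ⟶ A) : G ⟶ A := lift (𝟙 G) (toUnit G ≫ pι) ≫ act

theorem comp_orbit (pι : 𝟙_ (Over S) ⟶ A) {X : Over S} (g : X ⟶ G) :
    g ≫ orbit act pι = lift g (toUnit X ≫ pι) ≫ act := by
  simp [orbit, comp_lift_assoc, ← Category.assoc, toUnit_unique (g ≫ toUnit G) (toUnit X)]

include hυ in
/-- Two points have the same image in the orbit iff they conjugate the subgroup in the same way. -/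
theorem orbit_eq_iff (hact : IsConjAct υ act) (u : K ⟶ G) [IsMonHom u] {pι : 𝟙_ (Over S) ⟶ A}
    (hι : ∀ (X : Over S) (y : X ⟶ K), lift y (toUnit X ≫ pι) ≫ υ = y ≫ u) {X : Over S} (g g' : X ⟶ G) :
    g ≫ orbit act pι = g' ≫ orbit act pι ↔ ∀ (Y : Over S) (x : Y ⟶ X) (y : Y ⟶ K),
      (x ≫ g) * (y ≫ u) * (x ≫ g)⁻¹ = (x ≫ g') * (y ≫ u) * (x ≫ g')⁻¹ := by
  have e : ∀ (Y : Over S) (x : Y ⟶ X) (y : Y ⟶ K) (g : X ⟶ G),
      lift y (x ≫ g ≫ orbit act pι) ≫ υ = (x ≫ g) * (y ≫ u) * (x ≫ g)⁻¹ := fun Y x y g => by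
    rw [← Category.assoc x, comp_orbit, hact, hι]
  refine ⟨fun h Y x y => by rw [← e, ← e, h], fun h => ext_hom hυ fun Y x y => by rw [e, e, h]⟩

/-- The translations of a family of points. -/
abbrev transl (act : G ⊗ A ⟶ A) {B : Over S} (α : B ⟶ A) : G ⊗ B ⟶ A ⊗ B :=
  lift (lift (fst G B) (snd G B ≫ α) ≫ act) (snd G B)

variable {Q : ∀ (M : Type), AddCommGroup M → Prop}

include hυ in
/-- Translations are formally smooth. -/
theorem isFormallySmooth_transl (hK : DiagGrp.HasChartsFpqc Q K) (hact : IsConjAct υ act)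
    (hG : MoreMor.IsFormallySmoothHom G.hom) {B : Over S} (α : B ⟶ A) :
    MoreMor.IsFormallySmoothHom (transl act α).left := by
  intro R _ J hJ a b hab
  let q : Spec (CommRingCat.of R) ⟶ S := b ≫ (A ⊗ B).hom
  let bR : aff q R ⟶ A ⊗ B := Over.homMk b (by
    change b ≫ (A ⊗ B).hom = Spec.map (CommRingCat.ofHom (algebraMap R R)) ≫ q
    rw [Algebra.algebraMap_self, CommRingCat.ofHom_id, show Spec.map (𝟙 (CommRingCat.of R)) = 𝟙 _ from Spec.map_id _,
      Category.id_comp])
  let aR : aff q (R ⧸ J) ⟶ G ⊗ B := Over.homMk a (by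
    change a ≫ (G ⊗ B).hom = Spec.map (CommRingCat.ofHom (Ideal.Quotient.mk J)) ≫ b ≫ (A ⊗ B).hom
    rw [← Over.w (transl act α), ← Category.assoc, ← hab, Category.assoc])
  let π : aff q (R ⧸ J) ⟶ aff q R := affMap q (Ideal.Quotient.mkₐ R J)
  have he : π ≫ bR = aR ≫ transl act α := Over.OverMorphism.ext hab
  obtain ⟨l, hl1, hl2⟩ := hG R J hJ (aR ≫ fst G B).left q (Over.w (aR ≫ fst G B)).symm
  let g₁ : aff q R ⟶ G := Over.homMk l (by
    change l ≫ G.hom = Spec.map (CommRingCat.ofHom (algebraMap R R)) ≫ q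
    rw [hl2, Algebra.algebraMap_self, CommRingCat.ofHom_id, show Spec.map (𝟙 (CommRingCat.of R)) = 𝟙 _ from Spec.map_id _,
      Category.id_comp])
  have hg₁ : π ≫ g₁ = aR ≫ fst G B := Over.OverMorphism.ext hl1
  let bA : aff q R ⟶ A := bR ≫ fst A B
  let bB : aff q R ⟶ B := bR ≫ snd A B
  let a₁ : aff q R ⟶ A := lift g₁ (bB ≫ α) ≫ act
  have hB : π ≫ bB = aR ≫ snd G B := by
    rw [← Category.assoc, he, Category.assoc, lift_snd]
  have hA : π ≫ a₁ = π ≫ bA := by
    rw [← Category.assoc π bR, he, Category.assoc, lift_fst]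
    change π ≫ lift g₁ (bB ≫ α) ≫ act = _
    rw [comp_lift_assoc, comp_lift_assoc, hg₁, ← Category.assoc π bB, hB, Category.assoc]
  obtain ⟨C, _, _, h, hu⟩ := exists_isUniv q K (EssFree.isAffineHom_of_charts hK)
  let p : aff q C ⟶ aff q R := affMap q (Algebra.ofId R C)
  have hpt : ∀ a' : aff q R ⟶ A, IsHomPt h (lift h (p ≫ a') ≫ υ) := fun a' B' _ _ f g k e => by
    have e₀ : ∀ m : C →ₐ[R] B', affMap q m ≫ p ≫ a' = affMap q (Algebra.ofId R B') ≫ a' := fun m => by
      rw [affMap_comp_assoc, Subsingleton.elim (m.comp (Algebra.ofId R C)) (Algebra.ofId R B')]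
    simp only [comp_lift_assoc, e₀, e]
    exact hυ.1 _ _ _ _
  have hcong : ∀ a' : aff q R ⟶ A,
      affMap q (Ideal.Quotient.mkₐ R (J.map (algebraMap R C))) ≫ p ≫ a' = affMap q (quotA (A := C) J) ≫ π ≫ a' :=
    fun a' => by
      rw [affMap_comp_assoc, affMap_comp_assoc]
      congr 2
  obtain ⟨x, hx, hxP⟩ := exists_conjPt_step hK hu J hJ _ _ (hpt a₁) (hpt bA)
    (by simp only [comp_lift_assoc, hcong, hA])
  have hnew : lift x a₁ ≫ act = bA := by
    refine ext_hom hυ fun Y r y => ?_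
    obtain ⟨t, htr, hty⟩ := hu.factor Y r y
    have h1 := congrArg (t ≫ ·) hxP
    simp only [MonObj.comp_mul, GrpObj.comp_inv, ← Category.assoc, comp_lift, htr, hty] at h1
    rw [comp_lift_assoc, hact]
    rw [← htr] at *
    simp only [Category.assoc] at h1 ⊢
    exact h1.symm
  let g : aff q R ⟶ G := x * g₁
  have hgB : lift g (bB ≫ α) ≫ act = bA := by rw [act_mul hυ hact, hnew]
  refine ⟨(lift g bB).left, ?_, ?_⟩
  · have h1 : π ≫ lift g bB = aR := by
      apply CartesianMonoidalCategory.hom_ext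
      · rw [Category.assoc, lift_fst, MonObj.comp_mul, hx, _root_.one_mul, hg₁]
      · rw [Category.assoc, lift_snd, hB]
    exact congrArg Over.Hom.left h1
  · have h1 : lift g bB ≫ transl act α = bR := by
      apply CartesianMonoidalCategory.hom_ext
      · rw [Category.assoc, lift_fst, comp_lift_assoc, lift_fst, ← Category.assoc (lift g bB), lift_snd, hgB]
      · rw [Category.assoc, lift_snd, lift_snd]
    exact congrArg Over.Hom.left h1

include hυ in
/-- Translations are smooth. -/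
theorem smooth_transl (hK : DiagGrp.HasChartsFpqc Q K) (hact : IsConjAct υ act) [Smooth G.hom]
    [LocallyOfFiniteType A.hom] {B : Over S} (α : B ⟶ A) : Smooth (transl act α).left := by
  have h1 : LocallyOfFinitePresentation G.hom := ((Groth.Agent.S1488.result G.hom).mp ‹_›).1
  refine (Groth.Agent.S1488.result _).mpr ⟨?_,
    isFormallySmooth_transl hυ hK hact ((Groth.Agent.S1488.result G.hom).mp ‹_›).2 α⟩
  refine DiagGrp.lfp_of_comp_of_lft _ (snd A B).left ?_ ?_
  · have : (transl act α).left ≫ (snd A B).left = (snd G B).left := by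
      rw [← Over.comp_left]; exact congrArg Over.Hom.left (lift_snd _ _)
    rw [this]
    exact inferInstanceAs (LocallyOfFinitePresentation (Limits.pullback.snd G.hom B.hom))
  · exact inferInstanceAs (LocallyOfFiniteType (Limits.pullback.snd A.hom B.hom))

include hυ in
/-- Orbit maps are smooth. -/
theorem smooth_orbit (hK : DiagGrp.HasChartsFpqc Q K) (hact : IsConjAct υ act) [Smooth G.hom]
    [LocallyOfFiniteType A.hom] (pι : 𝟙_ (Over S) ⟶ A) : Smooth (orbit act pι).left := by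
  haveI := smooth_transl hυ hK hact pι
  have e : orbit act pι = lift (𝟙 G) (toUnit G) ≫ transl act pι ≫ fst A _ := by
    rw [lift_fst, comp_lift_assoc, lift_fst, ← Category.assoc, lift_snd]
  rw [e]
  haveI : IsIso (lift (𝟙 G) (toUnit G)) := ⟨fst G _, lift_fst _ _, by
    apply CartesianMonoidalCategory.hom_ext
    · simp
    · exact toUnit_unique _ _⟩
  haveI : IsIso (fst A (𝟙_ (Over S))) := ⟨lift (𝟙 A) (toUnit A), by
    apply CartesianMonoidalCategory.hom_ext
    · simp
    · exact toUnit_unique _ _, lift_fst _ _⟩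
  haveI : IsIso (lift (𝟙 G) (toUnit G)).left := inferInstanceAs (IsIso ((Over.forget S).map (lift (𝟙 G) (toUnit G))))
  haveI : IsIso (fst A (𝟙_ (Over S))).left := inferInstanceAs (IsIso ((Over.forget S).map (fst A (𝟙_ (Over S)))))
  rw [Over.comp_left, Over.comp_left]
  infer_instance

end GrothLib.MultQuot14
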